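import Cfsg.Agent.Lib.Helper56.SpPerm.Data

set_option autoImplicit false
set_option linter.unusedVariables false

namespace Cfsg.Agent.Lib.Helper56.SpPerm

open Cfsg.Agent.Lib.Helper56.SpQ (Gen)
open Cfsg.Agent.Lib.Helper28.TC Cfsg.Agent.Lib.Helper56.SpQ85

noncomputable section

theorem labP_blk0 : allRange (guard nn labP) 10 (0 * 2 ^ 10) = true := by decide +kernel
theorem labP_all : ∀ i, i < nn → labP i = true := by
  refine all_of_blocks nn labP 10 1 (by decide) ?_
  intro k hk
  interval_cases k
  · exact labP_blk0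
theorem subP1_blk0 : allRange (guard nn subP1) 10 (0 * 2 ^ 10) = true := by decide +kernel
theorem subP1_all : ∀ i, i < nn → subP1 i = true := by
  refine all_of_blocks nn subP1 10 1 (by decide) ?_
  intro k hk
  interval_cases k
  · exact subP1_blk0
theorem sub1_count : countRange (fun i => band (nlt i nn) ((OCs 1 1).inO i)) 7 0 = 64 := by decide +kernel
theorem sub1_root : (OCs 1 1).inO 1 = true := by decide +kernel
theorem subP2_blk0 : allRange (guard nn subP2) 10 (0 * 2 ^ 10) = true := by decide +kernel
theorem subP2_all : ∀ i, i < nn → subP2 i = true := by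
  refine all_of_blocks nn subP2 10 1 (by decide) ?_
  intro k hk
  interval_cases k
  · exact subP2_blk0
theorem sub2_count : countRange (fun i => band (nlt i nn) ((OCs 2 8).inO i)) 7 0 = 20 := by decide +kernel
theorem sub2_root : (OCs 2 8).inO 8 = true := by decide +kernel
theorem fixK : allList (fun w => Nat.beq (act tf w 0) 0) wordsK = true := by decide +kernel
theorem uv_cover : ∀ x : Gen, (∃ t ∈ uvWords, t.1 = x) ∨ (∃ t ∈ exWords, t.1 = x ∧ ∀ y ∈ t.2, ∃ t' ∈ uvWords, t'.1 = y) := by
  intro x
  cases x <;> decide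

end

end Cfsg.Agent.Lib.Helper56.SpPerm
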