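import Cfsg.Agent.Lib.Helper56.SpQ85.Main
import Cfsg.Agent.Lib.Helper28.TCOrbit

set_option autoImplicit false
set_option linter.unusedVariables false

namespace Cfsg.Agent.Lib.Helper56.SpPerm

open Cfsg.Agent.Lib.Helper56.SpQ (Gen)
open Cfsg.Agent.Lib.Helper28.TC Cfsg.Agent.Lib.Helper56.SpQ85

noncomputable section

/-- generating words of level 0 -/
def words0 : List (List Gen) := [
  [Gen.c],
  [Gen.d],
  [Gen.e],
  [Gen.f],
  [Gen.h]]

def orbT0_c0 : ℕ := 0x42114802250044de88a3a11274222e444dc089b611466226c84518089b011160220bc3c170782b0f4541e2a83cd4878a90f14e1e6983c93078a50f2481e28c3cd1078220f2421e8803c500799f0f13e1e8783ccf0791e0f13a1a270350d0691a0d1321a660340c069970d22e1a25c350b068960d32a1a254350a069940d2281a25034098598e0b11c162342cc60588c0b4161662c2c858580b0b114126202484048880910c1281424c2849050910a128101cc183a02073040e4081c0103981052020a20415000180001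
def orbT0 : ℕ := orbT0_c0
def orbE0 (i : ℕ) : ℕ := look orbT0 19 524287 i
/-- orbit certificate of level 0 -/
def OC0 : OrbCert where
  inO := fun i => Nat.beq (Nat.land (orbE0 i) 1) 1
  dep := fun i => Nat.land (Nat.shiftRight (orbE0 i) 1) 127
  opar := fun i => Nat.land (Nat.shiftRight (orbE0 i) 8) 127
  ogen := fun i => Nat.shiftRight (orbE0 i) 15
  root := 0
def orbP0 (i : ℕ) : Bool := orbRowOK tf nn words0 OC0 i

/-- generating words of level 1 -/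
def words1 : List (List Gen) := [
  [Gen.c],
  [Gen.d],
  [Gen.e],
  [Gen.f],
  [Gen.h, Gen.d, Gen.h, Gen.e, Gen.c, Gen.d, Gen.h, Gen.c, Gen.d, Gen.h]]

def orbT1_c0 : ℕ := 0x1c407000003101cde848c307176122e424a08380000000006c81d06848d409416120000000002040535a0a6ac1d01828a9092500e698245403800003580e8682504838b207194120000014038c10713e120b4151c04a4407000000000100818ad0525a0a1041ce083a0205418128b01c000024d0932a0e2541d07848b5094860e8ac1c000000000000004b01d028388c093500e62c25168280b09000000000000000000010c0e00000c2839050710a0e00000c182800003040a40814010298103202062040c000080000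
def orbT1 : ℕ := orbT1_c0
def orbE1 (i : ℕ) : ℕ := look orbT1 19 524287 i
/-- orbit certificate of level 1 -/
def OC1 : OrbCert where
  inO := fun i => Nat.beq (Nat.land (orbE1 i) 1) 1
  dep := fun i => Nat.land (Nat.shiftRight (orbE1 i) 1) 127
  opar := fun i => Nat.land (Nat.shiftRight (orbE1 i) 8) 127
  ogen := fun i => Nat.shiftRight (orbE1 i) 15
  root := 1
def orbP1 (i : ℕ) : Bool := orbRowOK tf nn words1 OC1 i

/-- generating words of level 2 -/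
def words2 : List (List Gen) := [
  [Gen.f, Gen.c, Gen.f],
  [Gen.d, Gen.c, Gen.e, Gen.d, Gen.f, Gen.c, Gen.h, Gen.d, Gen.h, Gen.e, Gen.c, Gen.d, Gen.h, Gen.c, Gen.d, Gen.h, Gen.e],
  [Gen.f, Gen.h, Gen.d, Gen.c, Gen.h, Gen.d, Gen.c, Gen.e, Gen.h, Gen.c, Gen.h, Gen.d, Gen.c, Gen.e, Gen.h, Gen.d, Gen.h, Gen.f, Gen.d, Gen.f, Gen.h, Gen.d, Gen.h, Gen.e, Gen.c, Gen.d, Gen.h, Gen.c, Gen.d, Gen.h, Gen.f]]

def orbT2_c0 : ℕ := 0x260244d039180910c06528240000000000000010c1c44848000027e1200000000002b0b1740a000001504800001860e2c41c000000000000004180c000012907254120000086028230b0000050c1ca7828b809000000000019049410b2a2122d41c67828350706e160000000000310723c124a024518580000154120681c000000000000002301400000290710e16000000f858d00b00000000000000000000000000000a4858060319216000008d038000015012000040000000000000000000000000000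
def orbT2 : ℕ := orbT2_c0
def orbE2 (i : ℕ) : ℕ := look orbT2 19 524287 i
/-- orbit certificate of level 2 -/
def OC2 : OrbCert where
  inO := fun i => Nat.beq (Nat.land (orbE2 i) 1) 1
  dep := fun i => Nat.land (Nat.shiftRight (orbE2 i) 1) 127
  opar := fun i => Nat.land (Nat.shiftRight (orbE2 i) 8) 127
  ogen := fun i => Nat.shiftRight (orbE2 i) 15
  root := 6
def orbP2 (i : ℕ) : Bool := orbRowOK tf nn words2 OC2 i

/-- generating words of level 3 -/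
def words3 : List (List Gen) := [
  [Gen.e, Gen.h, Gen.d, Gen.c, Gen.h, Gen.d, Gen.c, Gen.e, Gen.h, Gen.d, Gen.h, Gen.c, Gen.f, Gen.d, Gen.e, Gen.c, Gen.d, Gen.f, Gen.h, Gen.d, Gen.c, Gen.h, Gen.d, Gen.c, Gen.e, Gen.h, Gen.d, Gen.h, Gen.f, Gen.d, Gen.f, Gen.h, Gen.d, Gen.h, Gen.e, Gen.c, Gen.d, Gen.h, Gen.c, Gen.h, Gen.e, Gen.c, Gen.d, Gen.h, Gen.c, Gen.d, Gen.h, Gen.c, Gen.f, Gen.d, Gen.c, Gen.e, Gen.d, Gen.f, Gen.c, Gen.h, Gen.d, Gen.h, Gen.e, Gen.c, Gen.d, Gen.h, Gen.c, Gen.d, Gen.h, Gen.e, Gen.f, Gen.h, Gen.d, Gen.c, Gen.h, Gen.d, Gen.c, Gen.e, Gen.h, Gen.c, Gen.h, Gen.d, Gen.c, Gen.e, Gen.h, Gen.d, Gen.h, Gen.f, Gen.d, Gen.f, Gen.h, Gen.d, Gen.h, Gen.e, Gen.c, Gen.d, Gen.h, Gen.c, Gen.d, Gen.h, Gen.c, Gen.f, Gen.d, Gen.c, Gen.e, Gen.d, Gen.f, Gen.c, Gen.h, Gen.d, Gen.h, Gen.e, Gen.c, Gen.d, Gen.h, Gen.c, Gen.d, Gen.h, Gen.e, Gen.f, Gen.h, Gen.d, Gen.c, Gen.h, Gen.d, Gen.c, Gen.e, Gen.h, Gen.c,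 Gen.h, Gen.d, Gen.c, Gen.e, Gen.h, Gen.d, Gen.h, Gen.f, Gen.d, Gen.f, Gen.h, Gen.d, Gen.h, Gen.e, Gen.c, Gen.d, Gen.h, Gen.c, Gen.d, Gen.h, Gen.f],
  [Gen.f, Gen.c, Gen.f, Gen.e, Gen.h, Gen.d, Gen.c, Gen.h, Gen.d, Gen.c, Gen.e, Gen.h, Gen.d, Gen.h, Gen.c, Gen.f, Gen.d, Gen.e, Gen.c, Gen.d, Gen.e, Gen.h, Gen.d, Gen.c, Gen.h, Gen.d, Gen.c, Gen.e, Gen.h, Gen.d, Gen.h, Gen.c, Gen.f, Gen.d, Gen.e, Gen.c, Gen.d, Gen.f, Gen.h, Gen.d, Gen.c, Gen.h, Gen.d, Gen.c, Gen.e, Gen.h, Gen.d, Gen.h, Gen.f, Gen.d, Gen.f, Gen.h, Gen.d, Gen.h, Gen.e, Gen.c, Gen.d, Gen.h, Gen.c, Gen.h, Gen.e, Gen.c, Gen.d, Gen.h, Gen.c, Gen.d, Gen.h, Gen.c, Gen.h, Gen.d, Gen.c, Gen.h, Gen.d, Gen.c, Gen.e, Gen.h, Gen.c, Gen.h, Gen.d, Gen.c, Gen.e, Gen.h, Gen.d, Gen.h, Gen.f, Gen.d, Gen.f, Gen.h, Gen.d, Gen.h, Gen.e, Gen.c, Gen.d, Gen.h, Gen.c, Gen.d, Gen.h, Gen.f, Gen.d, Gen.c, Gen.e, Gen.d, Gen.f, Gen.c, Gen.h, Gen.d, Gen.h, Gen.e, Gen.c,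 Gen.d, Gen.h, Gen.c, Gen.d, Gen.h, Gen.e, Gen.f, Gen.h, Gen.d, Gen.c, Gen.h, Gen.d, Gen.c, Gen.e, Gen.h, Gen.c, Gen.h, Gen.d, Gen.c, Gen.e, Gen.h, Gen.d, Gen.h, Gen.f, Gen.d, Gen.f, Gen.h, Gen.d, Gen.h, Gen.e, Gen.c, Gen.d, Gen.h, Gen.c, Gen.d, Gen.h, Gen.f, Gen.d, Gen.c, Gen.e, Gen.d, Gen.f, Gen.c, Gen.h, Gen.d, Gen.h, Gen.e, Gen.c, Gen.d, Gen.h, Gen.c, Gen.d, Gen.h, Gen.e, Gen.d, Gen.c, Gen.e, Gen.d, Gen.f, Gen.c, Gen.h, Gen.d, Gen.h, Gen.e, Gen.c, Gen.d, Gen.h, Gen.c, Gen.d, Gen.h, Gen.e]]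

def orbT3_c0 : ℕ := 0x40600000410180000000000000000000000000000000000000000000000000000000000000000000000000000000000000000000000000000000000000000000000000000000000000000000000000000000000000000000000000000000000000000000000000000000000000000000000000000000000000000000000000000000bb050000000004000000000
def orbT3 : ℕ := orbT3_c0
def orbE3 (i : ℕ) : ℕ := look orbT3 19 524287 i
/-- orbit certificate of level 3 -/
def OC3 : OrbCert where
  inO := fun i => Nat.beq (Nat.land (orbE3 i) 1) 1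
  dep := fun i => Nat.land (Nat.shiftRight (orbE3 i) 1) 127
  opar := fun i => Nat.land (Nat.shiftRight (orbE3 i) 8) 127
  ogen := fun i => Nat.shiftRight (orbE3 i) 15
  root := 2
def orbP3 (i : ℕ) : Bool := orbRowOK tf nn words3 OC3 i

/-- generating words of the point stabilizer part -/
def wordsK : List (List Gen) := [
  [Gen.c],
  [Gen.d],
  [Gen.e],
  [Gen.f],
  [Gen.h, Gen.d, Gen.h, Gen.e, Gen.c, Gen.d, Gen.h, Gen.c, Gen.d, Gen.h]]

def subT_c0 : ℕ := 0x71019420090c4064de84230c19176108b9084a083234c1a4a60d1b2065068423502141610a11049098348101135a089ab065018222a4212500c9a6084540328741a3580ca1a085048322c81919410a46068140323041913e1082d0451c0429101913a0d09c069008122b41125a08841064e08328081141810a2c0650d8349342132a0c895065078422d4214860ca2b065070246381211c0912c06502832230213500c98b0851682202c2132209188028840142200a10c0c808028c28324141910a0c893068c182200002304089020440102260409202048810240000200000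
def subT : ℕ := subT_c0
def subE (i : ℕ) : ℕ := look subT 21 2097151 i
/-- the suborbit label of a point -/
def lab (i : ℕ) : ℕ := Nat.land (subE i) 7
/-- orbit certificate of the suborbit with label `j` and root `r` -/
def OCs (j r : ℕ) : OrbCert where
  inO := fun i => Nat.beq (lab i) j
  dep := fun i => Nat.land (Nat.shiftRight (subE i) 3) 127
  opar := fun i => Nat.land (Nat.shiftRight (subE i) 10) 127
  ogen := fun i => Nat.shiftRight (subE i) 17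
  root := r
/-- the number of suborbits -/
def nlab : ℕ := 2
/-- label `0` only at the base point, labels at most `nlab` -/
def labP (i : ℕ) : Bool := band (Nat.ble (lab i) nlab) (Bool.rec (nlt 0 (lab i)) (Nat.beq (lab i) 0) (Nat.beq i 0))
def subP1 (i : ℕ) : Bool := orbRowOK tf nn wordsK (OCs 1 1) i
def subP2 (i : ℕ) : Bool := orbRowOK tf nn wordsK (OCs 2 8) i

/-- words `u`, `v` of order 17 with `x = u * v` for each generator `x` -/
def uvWords : List (Gen × List Gen × List Gen) := [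
  (Gen.c, [Gen.d, Gen.h, Gen.e, Gen.f, Gen.d, Gen.h, Gen.c, Gen.e, Gen.d], [Gen.d, Gen.e, Gen.c, Gen.h, Gen.d, Gen.f, Gen.e, Gen.h, Gen.d, Gen.c]),
  (Gen.d, [Gen.h, Gen.d, Gen.e, Gen.f, Gen.c], [Gen.c, Gen.f, Gen.e, Gen.d, Gen.h, Gen.d]),
  (Gen.e, [Gen.d, Gen.e, Gen.h, Gen.e, Gen.f, Gen.d, Gen.h, Gen.c, Gen.d], [Gen.d, Gen.c, Gen.h, Gen.d, Gen.f, Gen.e, Gen.h, Gen.e, Gen.d, Gen.e]),
  (Gen.f, [Gen.e, Gen.h, Gen.e, Gen.f, Gen.d, Gen.h, Gen.c], [Gen.c, Gen.h, Gen.d, Gen.f, Gen.e, Gen.h, Gen.e, Gen.f]),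
  (Gen.h, [Gen.d, Gen.e, Gen.f, Gen.h, Gen.e, Gen.c, Gen.h, Gen.e, Gen.d, Gen.e, Gen.d], [Gen.d, Gen.e, Gen.d, Gen.e, Gen.h, Gen.c, Gen.e, Gen.h, Gen.f, Gen.e, Gen.d, Gen.h])]

/-- the remaining generators as words in the others -/
def exWords : List (Gen × List Gen) := [
  ]

/-- row check: `u ^ 17` and `v ^ 17` fix row `i`, and `u * v` acts as `x` -/
def ordP (i : ℕ) : Bool :=
  band (allList (fun t => band (Nat.beq (act tf (List.replicate 17 t.2.1).flatten i) i)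
    (band (Nat.beq (act tf (List.replicate 17 t.2.2).flatten i) i)
      (Nat.beq (act tf (t.2.1 ++ t.2.2) i) (tf t.1 i)))) uvWords)
    (allList (fun t => Nat.beq (act tf t.2 i) (tf t.1 i)) exWords)


end

end Cfsg.Agent.Lib.Helper56.SpPerm
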